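import Cfsg.Agent.G2T.OneM
import Cfsg.Agent.G2T.Out

/-!
# The model of a Sylow 2-subgroup of type `PSp₄(q)`

`WM R` is the wreath product `D ≀ 2` of the dihedral group `D = ⟨r, t⟩` over `R`; the element
`⟨i, k, e, f, g⟩` is `(r ^ i * t ^ f, r ^ k * t ^ g) * w ^ e`.  `PS R` is the subgroup of index two
of the elements with `i + k` even.
-/

set_option autoImplicit false

namespace Cfsg.Lib.PCore

open Subgroup Cfsg.Lib.G2T Cfsg.Lib.Local

/-- The element `(r ^ i * t ^ f, r ^ k * t ^ g) * w ^ e`. -/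
@[ext] structure WM (R : Type) where
  /-- first rotation -/
  i : R
  /-- second rotation -/
  k : R
  /-- exponent of the swap -/
  e : Bool
  /-- first reflection -/
  f : Bool
  /-- second reflection -/
  g : Bool
  deriving DecidableEq

namespace WM

variable {R : Type} [CommRing R]

instance : Mul (WM R) := ⟨fun x y =>
  ⟨x.i + cond x.f (-cond x.e y.k y.i) (cond x.e y.k y.i),
    x.k + cond x.g (-cond x.e y.i y.k) (cond x.e y.i y.k), xor x.e y.e,
    xor x.f (cond x.e y.g y.f), xor x.g (cond x.e y.f y.g)⟩⟩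

instance : One (WM R) := ⟨⟨0, 0, false, false, false⟩⟩

instance : Inv (WM R) := ⟨fun x =>
  ⟨cond x.e (cond x.g x.k (-x.k)) (cond x.f x.i (-x.i)),
    cond x.e (cond x.f x.i (-x.i)) (cond x.g x.k (-x.k)), x.e, cond x.e x.g x.f, cond x.e x.f x.g⟩⟩

theorem mul_def (i k i' k' : R) (e f g e' f' g' : Bool) :
    (⟨i, k, e, f, g⟩ : WM R) * ⟨i', k', e', f', g'⟩ =
    ⟨i + cond f (-cond e k' i') (cond e k' i'), k + cond g (-cond e i' k') (cond e i' k'),
      xor e e', xor f (cond e g' f'), xor g (cond e f' g')⟩ := rfl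

theorem one_def : (1 : WM R) = ⟨0, 0, false, false, false⟩ := rfl

theorem inv_def (i k : R) (e f g : Bool) : (⟨i, k, e, f, g⟩ : WM R)⁻¹ =
    ⟨cond e (cond g k (-k)) (cond f i (-i)), cond e (cond f i (-i)) (cond g k (-k)), e,
      cond e g f, cond e f g⟩ := rfl

instance : Group (WM R) := Group.ofLeftAxioms
  (by
    rintro ⟨i, k, _ | _, _ | _, _ | _⟩ ⟨i', k', _ | _, _ | _, _ | _⟩ ⟨i'', k'', e, f, g⟩ <;>
      simp [mul_def] <;> constructor <;> ring)
  (by rintro ⟨i, k, e, f, g⟩; simp [mul_def, one_def])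
  (by rintro ⟨i, k, _ | _, _ | _, _ | _⟩ <;> simp [mul_def, one_def, inv_def])

/-- Coordinates. -/
def equiv (R : Type) : WM R ≃ R × R × Bool × Bool × Bool where
  toFun x := (x.i, x.k, x.e, x.f, x.g)
  invFun p := ⟨p.1, p.2.1, p.2.2.1, p.2.2.2.1, p.2.2.2.2⟩

instance {R : Type} [Fintype R] : Fintype (WM R) := Fintype.ofEquiv _ (equiv R).symm

instance {R : Type} [Finite R] : Finite (WM R) := Finite.of_equiv _ (equiv R).symm

theorem card (R : Type) : Nat.card (WM R) = Nat.card R * Nat.card R * 8 := by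
  rw [Nat.card_congr (equiv R), Nat.card_prod, Nat.card_prod, Nat.card_prod, Nat.card_prod,
    Nat.card_eq_fintype_card (α := Bool), Fintype.card_bool, mul_assoc]

theorem mul_e (x y : WM R) : (x * y).e = xor x.e y.e := rfl

theorem inv_e (x : WM R) : x⁻¹.e = x.e := rfl

theorem sum_mul (a b : WM R) :
    ∃ u, (a * b).i + (a * b).k = a.i + a.k + (b.i + b.k) + (u + u) := by
  rcases a with ⟨i, k, _ | _, _ | _, _ | _⟩ <;> rcases b with ⟨i', k', e, f, g⟩ <;>
    simp only [mul_def, cond]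
  exacts [⟨0, by ring⟩, ⟨-k', by ring⟩, ⟨-i', by ring⟩, ⟨-(i' + k'), by ring⟩, ⟨0, by ring⟩,
    ⟨-i', by ring⟩, ⟨-k', by ring⟩, ⟨-(i' + k'), by ring⟩]

/-- The elements with even sum of rotations. -/
def ev (R : Type) [CommRing R] : Subgroup (WM R) where
  carrier := {y | ∃ u, y.i + y.k = u + u}
  mul_mem' {a b} := fun ⟨u, hu⟩ ⟨v, hv⟩ => by
    obtain ⟨t, ht⟩ := sum_mul a b
    exact ⟨u + v + t, by rw [ht, hu, hv]; ring⟩
  one_mem' := ⟨0, rfl⟩
  inv_mem' {a} := fun ⟨u, hu⟩ => by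
    obtain ⟨t, ht⟩ := sum_mul a a⁻¹
    rw [mul_inv_cancel] at ht
    have h : (0 : R) + 0 = _ := ht
    exact ⟨-(u + t), by linear_combination -h - hu⟩

theorem idx_ev (P : Par R) : IdxLeTwo (ev R) ⊤ := fun a _ b _ ha hb => by
  obtain ⟨t, ht⟩ := sum_mul a b
  obtain ⟨u, hu | hu⟩ := P.ev (a.i + a.k)
  · exact absurd ⟨u, hu⟩ ha
  obtain ⟨v, hv | hv⟩ := P.ev (b.i + b.k)
  · exact absurd ⟨v, hv⟩ hb
  exact ⟨u + v + t + 1, by rw [ht, hu, hv]; ring⟩

instance normal_ev : (ev R).Normal := ⟨by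
  rintro ⟨i, k, _ | _, _ | _, _ | _⟩ ⟨u, hu⟩ ⟨i', k', _ | _, _ | _, _ | _⟩ <;>
    simp only [mul_def, inv_def, cond, Bool.xor_false, Bool.xor_true, Bool.not_false,
      Bool.xor_self] <;> change ∃ _, _ <;> simp only at hu ⊢ <;>
    first
      | exact ⟨u, by linear_combination hu⟩
      | exact ⟨u - i, by linear_combination hu⟩
      | exact ⟨u - k, by linear_combination hu⟩
      | exact ⟨-u, by linear_combination -hu⟩
      | exact ⟨u + i', by linear_combination hu⟩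
      | exact ⟨u + k', by linear_combination hu⟩
      | exact ⟨u + i' + k', by linear_combination hu⟩
      | exact ⟨u - i + i', by linear_combination hu⟩
      | exact ⟨u - i + k', by linear_combination hu⟩
      | exact ⟨u - k + i', by linear_combination hu⟩
      | exact ⟨u - k + k', by linear_combination hu⟩
      | exact ⟨u - i + i' + k', by linear_combination hu⟩
      | exact ⟨u - k + i' + k', by linear_combination hu⟩
      | exact ⟨-u + i', by linear_combination -hu⟩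
      | exact ⟨-u + k', by linear_combination -hu⟩
      | exact ⟨-u + i' + k', by linear_combination -hu⟩⟩

/-- The embedding of the model of type `G₂`. -/
def ofG : GM R →* WM R := MonoidHom.mk' (fun y => ⟨y.i, y.k, y.e, y.f, y.f⟩) (by
  rintro ⟨i, k, _ | _, f⟩ ⟨i', k', e', f'⟩ <;> rfl)

theorem ofG_def (i k : R) (e f : Bool) : ofG (⟨i, k, e, f⟩ : GM R) = ⟨i, k, e, f, f⟩ := rfl

theorem ofG_inj : Function.Injective (ofG : GM R → WM R) := by
  rintro ⟨i, k, e, f⟩ ⟨i', k', e', f'⟩ h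
  simp only [ofG_def, WM.mk.injEq] at h
  simp [h]

end WM

/-- The model of the Sylow 2-subgroup. -/
abbrev PS (R : Type) [CommRing R] : Type := WM.ev R

namespace PS

variable {R : Type} [CommRing R]

/-- An element of the model. -/
abbrev mk (i k : R) (e f g : Bool) (h : ∃ u, i + k = u + u) : PS R := ⟨⟨i, k, e, f, g⟩, h⟩

theorem mul_def (i k i' k' : R) (e f g e' f' g' : Bool) (h h') :
    mk i k e f g h * mk i' k' e' f' g' h' =
    ⟨⟨i + cond f (-cond e k' i') (cond e k' i'), k + cond g (-cond e i' k') (cond e i' k'),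
      xor e e', xor f (cond e g' f'), xor g (cond e f' g')⟩,
      (mk i k e f g h * mk i' k' e' f' g' h').2⟩ := rfl

theorem one_def : (1 : PS R) = mk 0 0 false false false ⟨0, rfl⟩ := rfl

theorem inv_def (i k : R) (e f g : Bool) (h) : (mk i k e f g h)⁻¹ =
    ⟨⟨cond e (cond g k (-k)) (cond f i (-i)), cond e (cond f i (-i)) (cond g k (-k)), e,
      cond e g f, cond e f g⟩, (mk i k e f g h)⁻¹.2⟩ := rfl

/-- The reflection in the first factor. -/
abbrev tt : PS R := mk 0 0 false true false ⟨0, rfl⟩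

/-- The reflection in the second factor. -/
abbrev t2 : PS R := mk 0 0 false false true ⟨0, rfl⟩

/-- The swap. -/
abbrev ww : PS R := mk 0 0 true false false ⟨0, rfl⟩

/-- The second class of swaps. -/
abbrev w2 : PS R := mk 1 (-1) true false false ⟨0, by ring⟩

/-- The inversion `γ = t₁ t₂`. -/
abbrev gg : PS R := mk 0 0 false true true ⟨0, rfl⟩

/-- The second class of inversions. -/
abbrev g2 : PS R := mk (1 + 1) 0 false true true ⟨1, by ring⟩

/-- The element `(r, r)`. -/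
abbrev bb : PS R := mk 1 1 false false false ⟨1, rfl⟩

/-- The central product of the two quaternion subgroups. -/
def Qm : Subgroup (PS R) where
  carrier := {y | y.1.f = y.1.g}
  mul_mem' := by
    rintro ⟨⟨i, k, _ | _, f, g⟩, h⟩ ⟨⟨i', k', e', f', g'⟩, h'⟩ (rfl : f = g) (rfl : f' = g') <;> rfl
  one_mem' := rfl
  inv_mem' := by rintro ⟨⟨i, k, _ | _, f, g⟩, h⟩ (rfl : f = g) <;> rfl

theorem mem_Qm {y : PS R} : y ∈ Qm ↔ y.1.f = y.1.g := Iff.rfl

theorem idx_Qm : IdxLeTwo (Qm : Subgroup (PS R)) ⊤ := by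
  rintro ⟨⟨i, k, _ | _, _ | _, _ | _⟩, h⟩ - ⟨⟨i', k', e', _ | _, _ | _⟩, h'⟩ - h1 h2 <;>
    first | exact absurd rfl h1 | exact absurd rfl h2 | rfl

/-- The base group. -/
def S0 : Subgroup (PS R) where
  carrier := {y | y.1.e = false}
  mul_mem' {a b} ha hb := by
    change xor a.1.e b.1.e = false
    rw [show a.1.e = false from ha, show b.1.e = false from hb]; rfl
  one_mem' := rfl
  inv_mem' h := h

theorem mem_S0 {y : PS R} : y ∈ S0 ↔ y.1.e = false := Iff.rfl

theorem idx_S0 : IdxLeTwo (S0 : Subgroup (PS R)) ⊤ := by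
  rintro ⟨⟨i, k, _ | _, f, g⟩, h⟩ - ⟨⟨i', k', _ | _, f', g'⟩, h'⟩ - h1 h2 <;>
    first | exact absurd rfl h1 | exact absurd rfl h2 | rfl

/-- The embedding of `GM.Q` with image `Qm`. -/
def ofQ : (GM.Q : Subgroup (GM R)) →* PS R :=
  (WM.ofG.comp (GM.Q : Subgroup (GM R)).subtype).codRestrict _ fun y => y.2

theorem coe_ofQ (y : (GM.Q : Subgroup (GM R))) : (ofQ y).1 = WM.ofG y.1 := rfl

theorem ofQ_inj : Function.Injective (ofQ (R := R)) := fun _ _ h =>
  Subtype.ext (WM.ofG_inj (congrArg Subtype.val h))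

theorem range_ofQ : (ofQ : (GM.Q : Subgroup (GM R)) →* PS R).range = Qm := by
  ext ⟨⟨i, k, e, f, g⟩, h⟩
  exact ⟨by rintro ⟨y, hy⟩; rw [← hy]; rfl,
    fun (hy : f = g) => ⟨⟨⟨i, k, e, f⟩, h⟩, by subst hy; rfl⟩⟩

theorem conj_ofQ (y : (GM.Q : Subgroup (GM R))) :
    ((t2 * ofQ y * t2⁻¹ : PS R) : WM R) = WM.ofG (GM.θ y.1) := by
  rcases y with ⟨⟨i, k, _ | _, _ | _⟩, h⟩ <;>
    simp [coe_ofQ, WM.ofG_def, GM.θ_def, WM.mul_def, WM.inv_def]

/-- Conjugation by `(r, 1)`. -/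
def κ : PS R ≃* PS R :=
  MulAut.conjNormal (H := WM.ev R) (⟨1, 0, false, false, false⟩ : WM R)

theorem coe_κ (y : PS R) : (κ y).1 =
    ⟨1, 0, false, false, false⟩ * y.1 * (⟨1, 0, false, false, false⟩ : WM R)⁻¹ := rfl

variable (P : Par R)

/-- The central involution. -/
abbrev jj : PS R := mk P.h P.h false false false ⟨P.h, rfl⟩

/-- The central involution of the first factor. -/
abbrev xx : PS R := mk P.h 0 false false false ⟨P.q, by rw [add_zero, P.qq]⟩

/-- The central involution of the second factor. -/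
abbrev x2 : PS R := mk 0 P.h false false false ⟨P.q, by rw [zero_add, P.qq]⟩

/-- The first quaternion subgroup. -/
def Q1 : Subgroup (PS R) := (P.Q₁.map WM.ofG).subgroupOf _

/-- The second quaternion subgroup. -/
def Q2 : Subgroup (PS R) := (P.Q₂.map WM.ofG).subgroupOf _

theorem ofQ_mem_Q1 {y : (GM.Q : Subgroup (GM R))} : ofQ y ∈ Q1 P ↔ y.1 ∈ P.Q₁ :=
  mem_map_iff_mem WM.ofG_inj

theorem ofQ_mem_Q2 {y : (GM.Q : Subgroup (GM R))} : ofQ y ∈ Q2 P ↔ y.1 ∈ P.Q₂ :=
  mem_map_iff_mem WM.ofG_inj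

theorem mem_Q1 {i k : R} {e f g : Bool} {h} :
    mk i k e f g h ∈ Q1 P ↔ f = false ∧ g = false ∧ i + k = cond e P.h 0 := by
  refine ⟨?_, ?_⟩
  · rintro ⟨⟨i', k', e', f'⟩, ⟨h1, h2⟩, h3⟩
    simp only [WM.ofG_def, WM.mk.injEq, coe_subtype] at h3
    obtain ⟨rfl, rfl, rfl, rfl, rfl⟩ := h3
    exact ⟨h1, h1, h2⟩
  · rintro ⟨rfl, rfl, h1⟩
    exact ⟨⟨i, k, e, false⟩, ⟨rfl, h1⟩, rfl⟩

theorem mem_Q2 {i k : R} {e f g : Bool} {h} :
    mk i k e f g h ∈ Q2 P ↔ f = e ∧ g = e ∧ i + -k = cond e P.h 0 := by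
  refine ⟨?_, ?_⟩
  · rintro ⟨⟨i', k', e', f'⟩, h1, h3⟩
    simp only [WM.ofG_def, WM.mk.injEq, coe_subtype] at h3
    obtain ⟨rfl, rfl, rfl, rfl, rfl⟩ := h3
    obtain ⟨h4, h5⟩ := P.mem_Q₂.1 h1
    have : f' = e' := by simpa using h4
    exact ⟨this, this, h5⟩
  · rintro ⟨rfl, rfl, h1⟩
    exact ⟨⟨i, k, g, g⟩, P.mem_Q₂.2 ⟨by simp, h1⟩, rfl⟩

theorem jj_mul_jj : jj P * jj P = 1 := by simp [Subtype.ext_iff, WM.mul_def, WM.one_def, P.hh]

theorem jj_ne_one : jj P ≠ 1 := by simp [Subtype.ext_iff, WM.one_def, P.h_ne]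

theorem jj_comm (y : PS R) : y * jj P = jj P * y := by
  rcases y with ⟨⟨i, k, _ | _, _ | _, _ | _⟩, h⟩ <;>
    simp [Subtype.ext_iff, WM.mul_def, P.neg_h, add_comm]

theorem jj_mem_center : jj P ∈ center (PS R) := mem_center_iff.2 (jj_comm P)

theorem eq_of_mem_center {y : PS R} (hy : y ∈ center (PS R)) : y = 1 ∨ y = jj P := by
  have h1 := mem_center_iff.1 hy bb
  have h2 := mem_center_iff.1 hy ww
  have h3 := mem_center_iff.1 hy tt
  have h4 := P.two_ne
  rcases y with ⟨⟨i, k, _ | _, _ | _, _ | _⟩, h⟩ <;>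
    simp [Subtype.ext_iff, WM.mul_def] at h1 h2 h3
  · obtain rfl := h2.1
    rcases P.eq_h k (by linear_combination -h3) with rfl | rfl
    exacts [Or.inl rfl, Or.inr rfl]
  · exact absurd (by linear_combination h1.1) h4

theorem injective [Finite R] (hS : IsPGroup 2 (PS R)) {G : Type*} [Group G] (φ : PS R →* G)
    (h : φ (jj P) ≠ 1) : Function.Injective φ := by
  refine φ.ker_eq_bot_iff.1 (by_contra fun hk => ?_)
  obtain ⟨y, hy, hc, ho⟩ := Solv.PG.exists_mem_center_orderOf_eq hS φ.ker hk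
  rcases eq_of_mem_center P hc with rfl | rfl
  · rw [orderOf_one] at ho; omega
  · exact h hy

/-- The central automorphism with fixed points `Qm`. -/
def ν : PS R ≃* PS R where
  toFun y := cond (xor y.1.f y.1.g) (y * jj P) y
  invFun y := cond (xor y.1.f y.1.g) (y * jj P) y
  left_inv := by
    rintro ⟨⟨i, k, _ | _, _ | _, _ | _⟩, h⟩ <;>
      simp [Subtype.ext_iff, WM.mul_def, P.neg_h, add_assoc, P.hh]
  right_inv := by
    rintro ⟨⟨i, k, _ | _, _ | _, _ | _⟩, h⟩ <;>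
      simp [Subtype.ext_iff, WM.mul_def, P.neg_h, add_assoc, P.hh]
  map_mul' := by
    rintro ⟨⟨i, k, _ | _, _ | _, _ | _⟩, h⟩ ⟨⟨i', k', e', _ | _, _ | _⟩, h'⟩ <;> cases e' <;>
      simp [Subtype.ext_iff, WM.mul_def, P.neg_h] <;> constructor <;>
      first | ring1 | linear_combination P.hh | linear_combination -P.hh

theorem ν_of_mem {y : PS R} (h : y ∈ Qm) : ν P y = y := by
  change cond (xor y.1.f y.1.g) _ _ = _
  rw [mem_Qm.1 h, Bool.xor_self]; rfl

theorem ν_of_not_mem {y : PS R} (h : y ∉ Qm) : ν P y = y * jj P := by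
  change cond (xor y.1.f y.1.g) _ _ = _
  rcases y with ⟨⟨i, k, e, _ | _, _ | _⟩, h'⟩ <;> first | exact absurd rfl h | rfl

end PS

/-- The model for the parameter `m`; its order is `2 ^ (2 * m + 6)`. -/
abbrev SS (m : ℕ) : Type := PS (ZMod (2 ^ (m + 2)))

/-- The data for the parameter `m`. -/
abbrev Pm (m : ℕ) : Par (ZMod (2 ^ (m + 2))) := Par.zmod m

theorem isPGroup_SS (m : ℕ) : IsPGroup 2 (SS m) :=
  (IsPGroup.of_card (G := WM (ZMod (2 ^ (m + 2)))) (n := 2 * m + 7)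
    (by rw [WM.card, Nat.card_zmod]; ring)).to_subgroup _

theorem card_SS (m : ℕ) : Nat.card (SS m) = 2 ^ (2 * m + 6) := by
  have h1 := (WM.ev (ZMod (2 ^ (m + 2)))).card_mul_index
  rcases (WM.idx_ev (Pm m)).le_or_relIndex with h | h
  · obtain ⟨u, hu⟩ := h (mem_top (⟨1, 0, false, false, false⟩ : WM _))
    exact absurd (by simpa using hu.symm) ((Pm m).ne_one u)
  · rw [relIndex_top_right] at h
    rw [h, WM.card, Nat.card_zmod] at h1
    exact Nat.eq_of_mul_eq_mul_right two_pos (h1.trans (by ring))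

theorem exists_half (m : ℕ) : ∃ p, (Pm (m + 1)).q = p + p :=
  ⟨((2 ^ m : ℕ) : ZMod (2 ^ (m + 1 + 2))), by
    change (((2 ^ (m + 1) : ℕ)) : ZMod (2 ^ (m + 1 + 2))) = _; push_cast; ring⟩

end Cfsg.Lib.PCore
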